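import Cfsg.Agent.H113.PSU.Descent
import Cfsg.Agent.ClassicalGeometry.PSUAutMain
import Cfsg.Agent.H649.VanC.Descent

/-!
# Elements of `SU_n(q)` with a fixed space of codimension two (helper112, for S4555 / S4559)

* `fixS x` : the fixed vectors of `x ∈ SU n F q`;
* `XX m` : the elements with `x ^ m = 1` and `dim fixS x = n - 2`; stable under `semiConj`;
* `exists_anis` : a non-isotropic fixed vector;
* `exists_qrefl` : the quasi-reflections;
* `class_eq` : `x^GU = x^SU` for `x ∈ XX m`.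
-/

set_option autoImplicit false

universe u

namespace Cfsg.Agent.H112.VU

open Cfsg Cfsg.Agent.LieClassical.HermBasic Cfsg.Agent.LieClassical.HermSiegel Matrix Module
open Cfsg.Agent.ClassicalGeometry.PSUAutCount (gm semiConj toAut herm_gm act_semiConj gm_inv_mulVec gm_mulVec_inv
  gm_mul gm_inj)
open Cfsg.Agent.H113.PSU.Descent

section Basic

variable {F : Type u} [Field F] {q n : ℕ}

/-- the fixed vectors -/
def fixS (x : SU n F q) : Submodule F (Fin n → F) where
  carrier := {v | act x v = v}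
  zero_mem' := act_zero x
  add_mem' := fun {a b} ha hb => by
    rw [Set.mem_ofPred_eq] at ha hb ⊢
    rw [act_add, ha, hb]
  smul_mem' := fun c a ha => by
    rw [Set.mem_ofPred_eq] at ha ⊢
    rw [act_smul, ha]

theorem mem_fixS {x : SU n F q} {v : Fin n → F} : v ∈ fixS x ↔ act x v = v := Iff.rfl

theorem card_fixS_semi (A : GU n F q) (ρ : F ≃+* F) (x : SU n F q) :
    Nat.card (fixS (semiConj A ρ x)) = Nat.card (fixS x) := by
  symm
  refine Nat.card_congr (Equiv.ofBijective
    (fun v : fixS x => (⟨gm A *ᵥ fun i => ρ ((v : Fin n → F) i), ?_⟩ : fixS (semiConj A ρ x))) ⟨?_, ?_⟩)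
  · rw [mem_fixS, act_semiConj, mem_fixS.1 v.2]
  · intro v w h
    have h1 : gm A *ᵥ (fun i => ρ ((v : Fin n → F) i)) = gm A *ᵥ (fun i => ρ ((w : Fin n → F) i)) :=
      congrArg Subtype.val h
    have h2 := congrArg (fun z => gm A⁻¹ *ᵥ z) h1
    simp only [gm_inv_mulVec] at h2
    apply Subtype.ext
    funext i
    exact ρ.injective (congrFun h2 i)
  · rintro ⟨w, hw⟩
    have e : gm A *ᵥ (fun i => ρ ((fun j => ρ.symm ((gm A⁻¹ *ᵥ w) j)) i)) = w := by
      simp only [RingEquiv.apply_symm_apply]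
      exact gm_mulVec_inv A w
    refine ⟨⟨fun j => ρ.symm ((gm A⁻¹ *ᵥ w) j), ?_⟩, Subtype.ext e⟩
    rw [mem_fixS] at hw ⊢
    have h1 := act_semiConj A ρ x (fun j => ρ.symm ((gm A⁻¹ *ᵥ w) j))
    rw [e, hw] at h1
    have h2 := congrArg (fun z => gm A⁻¹ *ᵥ z) h1
    simp only [gm_inv_mulVec] at h2
    funext j
    have h3 := congrFun h2 j
    rw [h3, RingEquiv.symm_apply_apply]

theorem finrank_fixS_semi [Finite F] (A : GU n F q) (ρ : F ≃+* F) (x : SU n F q) :
    finrank F (fixS (semiConj A ρ x)) = finrank F (fixS x) := by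
  have h1 := card_fixS_semi A ρ x
  rw [Module.natCard_eq_pow_finrank (K := F) (V := fixS (semiConj A ρ x)),
    Module.natCard_eq_pow_finrank (K := F) (V := fixS x)] at h1
  exact Nat.pow_right_injective (Finite.one_lt_card (α := F)) h1

/-- the elements with a fixed space of codimension two -/
def XX (m : ℕ) : Set (SU n F q) := {x | x ^ m = 1 ∧ finrank F (fixS x) + 2 = n}

theorem XX_semi [Finite F] {m : ℕ} (A : GU n F q) (ρ : F ≃+* F) {x : SU n F q} (hx : x ∈ XX m) :
    semiConj A ρ x ∈ XX m := by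
  refine ⟨?_, ?_⟩
  · rw [← map_pow, hx.1, map_one]
  · rw [finrank_fixS_semi]
    exact hx.2

end Basic

section Geom

variable {F : Type u} [Field F] [Fintype F] {q n : ℕ}

/-- the average -/
def avg (x : SU n F q) (m : ℕ) (v : Fin n → F) : Fin n → F := (m : F)⁻¹ • ∑ i ∈ Finset.range m, act (x ^ i) v

omit [Fintype F] in
theorem act_avg {x : SU n F q} {m : ℕ} (hx : x ^ m = 1) (v : Fin n → F) : act x (avg x m v) = avg x m v := by
  rw [avg, act_smul, act_sum]
  congr 1
  have h1 : ∀ i, act x (act (x ^ i) v) = act (x ^ (i + 1)) v := fun i => by rw [← act_mul, ← pow_succ']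
  simp only [h1]
  have h2 := Finset.sum_range_succ (fun i => act (x ^ i) v) m
  have h3 := Finset.sum_range_succ' (fun i => act (x ^ i) v) m
  rw [h2, hx, pow_zero] at h3
  exact (add_right_cancel h3).symm

omit [Fintype F] in
theorem avg_of_fix {x : SU n F q} {m : ℕ} (hm : (m : F) ≠ 0) {v : Fin n → F} (hv : act x v = v) : avg x m v = v := by
  have h1 : ∀ i, act (x ^ i) v = v := by
    intro i
    induction i with
    | zero => rw [pow_zero, act_one]
    | succ i ih => rw [pow_succ, act_mul, hv, ih]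
  rw [avg, Finset.sum_congr rfl fun i _ => h1 i, Finset.sum_const, Finset.card_range, ← Nat.cast_smul_eq_nsmul F,
    smul_smul, inv_mul_cancel₀ hm, one_smul]

omit [Fintype F] in
theorem act_pow_of_fix {x : SU n F q} {v : Fin n → F} (hv : act x v = v) (i : ℕ) : act (x ^ i) v = v := by
  induction i with
  | zero => rw [pow_zero, act_one]
  | succ i ih => rw [pow_succ, act_mul, hv, ih]

omit [Fintype F] in
theorem herm_avg {x : SU n F q} {m : ℕ} (hm : (m : F) ≠ 0) {u : Fin n → F} (hu : act x u = u) (v : Fin n → F) :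
    hermForm n F q (avg x m v) u = hermForm n F q v u := by
  have h1 : ∀ i, hermForm n F q (act (x ^ i) v) u = hermForm n F q v u := by
    intro i
    have := herm_act (x ^ i) v u
    rwa [act_pow_of_fix hu] at this
  rw [avg, herm_smul_left, herm_sum_left, Finset.sum_congr rfl fun i _ => h1 i, Finset.sum_const, Finset.card_range,
    nsmul_eq_mul, inv_mul_cancel_left₀ hm]

theorem herm_zero_of_iso (hF : Fintype.card F = q ^ 2) (W : Submodule F (Fin n → F))
    (hW : ∀ u ∈ W, hermForm n F q u u = 0) : ∀ u ∈ W, ∀ v ∈ W, hermForm n F q u v = 0 := by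
  intro u hu v hv
  apply eq_zero_of_forall_trace hF
  intro c
  have h1 := hW (c • u + v) (W.add_mem (W.smul_mem c hu) hv)
  rw [herm_add_left, herm_add_right hF, herm_add_right hF, herm_smul_left, herm_smul_left, herm_smul_right,
    herm_smul_right, hW u hu, hW v hv, herm_swap hF u v] at h1
  rw [mul_pow]
  linear_combination h1

/-- a non-isotropic fixed vector -/
theorem exists_anis (hF : Fintype.card F = q ^ 2) {x : SU n F q} {m : ℕ} (hm : (m : F) ≠ 0) (hx : x ^ m = 1)
    (h0 : fixS x ≠ ⊥) : ∃ u, act x u = u ∧ hermForm n F q u u ≠ 0 := by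
  by_contra hcon
  push Not at hcon
  obtain ⟨u, hu, hu0⟩ := (Submodule.ne_bot_iff _).1 h0
  apply hu0
  apply herm_nondeg hF
  intro v
  apply herm_eq_zero_swap hF
  rw [← herm_avg hm hu v]
  exact herm_zero_of_iso hF (fixS x) (fun w hw => hcon w hw) _ (act_avg hx v) _ hu

/-- quasi-reflections -/
theorem exists_qrefl (hF : Fintype.card F = q ^ 2) {u : Fin n → F} (hu : hermForm n F q u u ≠ 0) {l : F}
    (hl : l ^ (q + 1) = 1) : ∃ A : GU n F q, (gm A).det = l ∧
      ∀ v, gm A *ᵥ v = v + ((l - 1) * (hermForm n F q u u)⁻¹ * hermForm n F q v u) • u := by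
  set h := hermForm n F q u u with hh
  set M : Matrix (Fin n) (Fin n) F := 1 + vecMulVec (((l - 1) * h⁻¹) • u) (fun i => u i ^ q) with hM
  have hMv : ∀ v, M *ᵥ v = v + ((l - 1) * h⁻¹ * hermForm n F q v u) • u := by
    intro v
    rw [hM, Matrix.add_mulVec, Matrix.one_mulVec, Matrix.vecMulVec_mulVec]
    congr 1
    have e : (fun i => u i ^ q) ⬝ᵥ v = hermForm n F q v u := by
      rw [herm_def, dotProduct]
      exact Finset.sum_congr rfl fun i _ => mul_comm _ _
    rw [e]
    funext i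
    simp only [Pi.smul_apply, smul_eq_mul, MulOpposite.smul_eq_mul_unop, MulOpposite.unop_op]
    ring
  have hdet : M.det = l := by
    rw [hM, vecMulVec_eq Unit, det_one_add_replicateCol_mul_replicateRow]
    have e : (fun i => u i ^ q) ⬝ᵥ (((l - 1) * h⁻¹) • u) = (l - 1) * h⁻¹ * h := by
      rw [hh, herm_def, dotProduct, Finset.mul_sum]
      refine Finset.sum_congr rfl fun i _ => ?_
      rw [Pi.smul_apply, smul_eq_mul]
      ring
    rw [e, mul_assoc, inv_mul_cancel₀ hu]
    ring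
  have hhq : h ^ q = h := herm_self_pow hF u
  have hiso : ∀ v w, hermForm n F q (M *ᵥ v) (M *ᵥ w) = hermForm n F q v w := by
    intro v w
    rw [hMv, hMv, herm_add_left, herm_add_right hF, herm_add_right hF, herm_smul_left, herm_smul_left,
      herm_smul_right, herm_smul_right, ← hh, herm_swap hF w u]
    rw [mul_pow, mul_pow, inv_pow, hhq, sub_pow_q hF, one_pow, ← herm_swap hF w u]
    have h2 : l * l ^ q = 1 := by rw [← pow_succ']; exact hl
    have key : (l - 1) * h⁻¹ + (l ^ q - 1) * h⁻¹ + (l - 1) * h⁻¹ * ((l ^ q - 1) * h⁻¹) * h = 0 := by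
      have e : (l - 1) * h⁻¹ * ((l ^ q - 1) * h⁻¹) * h = (l - 1) * (l ^ q - 1) * h⁻¹ := by
        calc (l - 1) * h⁻¹ * ((l ^ q - 1) * h⁻¹) * h = (l - 1) * (l ^ q - 1) * h⁻¹ * (h⁻¹ * h) := by ring
          _ = _ := by rw [inv_mul_cancel₀ hu, mul_one]
      rw [e]
      linear_combination h⁻¹ * h2
    linear_combination (hermForm n F q v u * hermForm n F q u w) * key
  obtain ⟨A, hA, hAM⟩ := Cfsg.Agent.ClassicalGeometry.HermOrtho.exists_GU_of_isometry hF hiso
  refine ⟨⟨A, hA⟩, ?_, fun v => ?_⟩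
  · change (A : Matrix (Fin n) (Fin n) F).det = l
    rw [hAM, hdet]
  · change (A : Matrix (Fin n) (Fin n) F) *ᵥ v = _
    rw [hAM, hMv]

/-- `x^GU = x^SU` -/
theorem class_eq (hF : Fintype.card F = q ^ 2) (hn : 3 ≤ n) {m : ℕ} (hm : (m : F) ≠ 0) {x : SU n F q}
    (hx : x ∈ XX m) (g : GU n F q) :
    ∃ k : NN n F q, g * (eSU n F q x : GU n F q) * g⁻¹ = (k : GU n F q) * (eSU n F q x : GU n F q) * (k : GU n F q)⁻¹ := by
  have h0 : fixS x ≠ ⊥ := by
    intro h
    have := hx.2
    rw [h, finrank_bot] at this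
    omega
  obtain ⟨u, hu, hu0⟩ := exists_anis hF hm hx.1 h0
  have hdg : (gm g).det ^ (q + 1) = 1 := Cfsg.Agent.ClassicalGeometry.GUBasic.det_pow hF (herm_gm g)
  have hdg0 : (gm g).det ≠ 0 := by
    intro h
    rw [h, zero_pow (Nat.succ_ne_zero q)] at hdg
    exact zero_ne_one hdg
  obtain ⟨A, hA, hAv⟩ := exists_qrefl hF hu0 (l := (gm g).det⁻¹) (by rw [inv_pow, hdg, inv_one])
  have hcomm : A * (eSU n F q x : GU n F q) = (eSU n F q x : GU n F q) * A := by
    apply gm_inj
    rw [gm_mul, gm_mul]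
    apply Matrix.ext_iff_mulVec.2
    intro v
    have e1 : ∀ w, gm (eSU n F q x : GU n F q) *ᵥ w = act x w := fun w => eSU_val x w
    rw [← mulVec_mulVec, ← mulVec_mulVec, e1, e1, hAv, hAv, act_add, act_smul, hu]
    have h1 := herm_act x v u
    rw [hu] at h1
    rw [h1]
  have hk : g * A ∈ NN n F q := by
    change Matrix.GeneralLinearGroup.det ((g * A : GU n F q) : GL (Fin n) F) = 1
    apply Units.ext
    change (gm (g * A)).det = 1
    rw [gm_mul, det_mul, hA, mul_inv_cancel₀ hdg0]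
  refine ⟨⟨g * A, hk⟩, ?_⟩
  change g * (eSU n F q x : GU n F q) * g⁻¹ = g * A * (eSU n F q x : GU n F q) * (g * A)⁻¹
  rw [mul_assoc g A, hcomm]
  group

/-- **the descent** -/
theorem vz_psu (hF : Fintype.card F = q ^ 2) (hn : 4 ≤ n) {m : ℕ} (hm : (m : F) ≠ 0) {χ : GU n F q → ℂ}
    (hχ : IsIrrCharacter (GU n F q) χ)
    (hz : ∀ (z : GU n F q) (c : F), c ^ (q + 1) = 1 →
      (∀ v, ((z : GL (Fin n) F) : Matrix (Fin n) (Fin n) F).mulVec v = c • v) → χ z = χ 1)
    (h0 : ∀ x : SU n F q, x ∈ XX m → χ (eSU n F q x : GU n F q) = 0) :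
    ∀ x : SU n F q, x ∈ XX m → H713.VZ (PSU n F q) (QuotientGroup.mk x) := by
  intro x hx
  let E : PSU n F q ≃* NN n F q ⧸ Subgroup.center (NN n F q) :=
    Cfsg.Agent.LieClassical.FieldTransfer.centralQuotientCongr (eSU n F q)
  have hE : ∀ y : SU n F q, E (QuotientGroup.mk y) = QuotientGroup.mk (eSU n F q y) := fun y => rfl
  have h1 := Cfsg.Agent.H649.VanC.vz_down (NN n F q) hχ (fun z hz' => ?_)
    {y : NN n F q | (eSU n F q).symm y ∈ XX m} (fun y hy g => ?_) (fun y hy => ?_) (fun α y hy => ?_)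
    (eSU n F q x) (by
      change (eSU n F q).symm (eSU n F q x) ∈ XX m
      rw [MulEquiv.symm_apply_apply]; exact hx)
  · have h2 := h1.mulEquiv E.symm
    rw [← hE, MulEquiv.symm_apply_apply] at h2
    exact h2
  · obtain ⟨y, rfl⟩ := (eSU n F q).surjective z
    have hy : y ∈ Subgroup.center (SU n F q) := by
      rw [Subgroup.mem_center_iff] at hz' ⊢
      intro g
      apply (eSU n F q).injective
      rw [map_mul, map_mul, hz']
    obtain ⟨c, hcn, hcq, rfl⟩ := (Cfsg.Agent.LieClassical.SUBasic.mem_center_SU_iff hF (by omega) y).1 hy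
    refine hz _ c hcq fun v => ?_
    rw [eSU_val]
    exact Cfsg.Agent.ClassicalGeometry.PSUAutBasic.act_suScalar hcn hcq v
  · obtain ⟨y, rfl⟩ := (eSU n F q).surjective y
    rw [Set.mem_ofPred_eq, MulEquiv.symm_apply_apply] at hy
    exact class_eq hF (by omega) hm hy g
  · obtain ⟨y, rfl⟩ := (eSU n F q).surjective y
    rw [Set.mem_ofPred_eq, MulEquiv.symm_apply_apply] at hy
    exact h0 y hy
  · obtain ⟨y, rfl⟩ := (eSU n F q).surjective y
    rw [Set.mem_ofPred_eq, MulEquiv.symm_apply_apply] at hy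
    obtain ⟨A, ρ, hα⟩ := Cfsg.Agent.ClassicalGeometry.PSUAutMain.exists_toAut hF (by omega) (by omega)
      ((E.trans α).trans E.symm : MulAut (PSU n F q))
    refine ⟨eSU n F q (semiConj A ρ y), ?_, ?_⟩
    · rw [Set.mem_ofPred_eq, MulEquiv.symm_apply_apply]
      exact XX_semi A ρ hy
    · have h2 : ((E.trans α).trans E.symm : MulAut (PSU n F q)) (QuotientGroup.mk y) =
          toAut A ρ (QuotientGroup.mk y) := by rw [hα]
      change E.symm (α (E (QuotientGroup.mk y))) = QuotientGroup.mk (semiConj A ρ y) at h2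
      rw [hE] at h2
      have h3 := congrArg E h2
      rw [MulEquiv.apply_symm_apply, hE] at h3
      exact h3

end Geom

end Cfsg.Agent.H112.VU
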